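-- Ten elements of the presented Harada-Norton group with Carmichael's relations, as words on the table.
import Cfsg.Agent.Lib.Compute.TC.HNF.Data
set_option autoImplicit false
set_option maxRecDepth 1000000
set_option Elab.async false

open Cfsg.Agent.Lib.Compute.ToddCoxeterCore Cfsg.Agent.Lib.Compute.ToddCoxeterPresented Cfsg.Agent.Lib.Compute.TCFast Cfsg.Agent.Lib.Compute.TCChain Cfsg.Agent.Lib.Compute.PNet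

namespace Cfsg.Agent.Lib.Compute.TC.HNA

/-- an element of order three -/
def e0 : PE := .mul (.lt (nat_lit 3)) (.lt (nat_lit 3))

/-- an element of order three -/
def e1 : PE := .mul (.lt (nat_lit 0)) (.mul (.lt (nat_lit 2)) (.mul (.lt (nat_lit 0)) (.mul (.lt (nat_lit 2)) (.mul (.lt (nat_lit 2)) (.mul (.lt (nat_lit 2)) (.mul (.lt (nat_lit 0)) (.mul (.lt (nat_lit 2)) (.mul (.lt (nat_lit 0)) (.mul (.lt (nat_lit 3)) (.mul (.lt (nat_lit 3)) (.mul (.lt (nat_lit 1)) (.mul (.lt (nat_lit 3)) (.mul (.lt (nat_lit 1)) (.mul (.lt (nat_lit 3)) (.mul (.lt (nat_lit 3)) (.mul (.lt (nat_lit 3)) (.mul (.lt (nat_lit 1)) (.mul (.lt (nat_lit 3)) (.lt (nat_lit 1))))))))))))))))))))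

/-- an element of order three -/
def e2 : PE := .mul (.lt (nat_lit 1)) (.mul (.lt (nat_lit 3)) (.mul (.lt (nat_lit 3)) (.mul (.lt (nat_lit 4)) (.mul (.lt (nat_lit 3)) (.mul (.lt (nat_lit 1)) (.mul (.lt (nat_lit 4)) (.mul (.lt (nat_lit 3)) (.mul (.lt (nat_lit 1)) (.mul (.lt (nat_lit 3)) (.mul (.lt (nat_lit 4)) (.mul (.lt (nat_lit 3)) (.mul (.lt (nat_lit 3)) (.mul (.lt (nat_lit 4)) (.mul (.lt (nat_lit 3)) (.mul (.lt (nat_lit 1)) (.mul (.lt (nat_lit 2)) (.mul (.lt (nat_lit 2)) (.mul (.lt (nat_lit 2)) (.mul (.lt (nat_lit 2)) (.mul (.lt (nat_lit 2)) (.mul (.lt (nat_lit 0)) (.mul (.lt (nat_lit 2)) (.mul (.lt (nat_lit 4)) (.mul (.lt (nat_lit 2)) (.mul (.lt (nat_lit 4)) (.mul (.lt (nat_lit 2)) (.mul (.lt (nat_lit 4)) (.mul (.lt (nat_lit 2)) (.mul (.lt (nat_lit 4)) (.mul (.lt (nat_lit 2)) (.mul (.lt (nat_lit 2)) (.mul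 (.lt (nat_lit 4)) (.mul (.lt (nat_lit 0)) (.mul (.lt (nat_lit 2)) (.mul (.lt (nat_lit 0)) (.mul (.lt (nat_lit 2)) (.mul (.lt (nat_lit 2)) (.mul (.lt (nat_lit 2)) (.mul (.lt (nat_lit 0)) (.mul (.lt (nat_lit 2)) (.mul (.lt (nat_lit 0)) (.mul (.lt (nat_lit 3)) (.mul (.lt (nat_lit 3)) (.mul (.lt (nat_lit 1)) (.mul (.lt (nat_lit 3)) (.mul (.lt (nat_lit 1)) (.mul (.lt (nat_lit 3)) (.mul (.lt (nat_lit 3)) (.mul (.lt (nat_lit 3)) (.mul (.lt (nat_lit 1)) (.mul (.lt (nat_lit 3)) (.mul (.lt (nat_lit 1)) (.mul (.lt (nat_lit 4)) (.mul (.lt (nat_lit 3)) (.mul (.lt (nat_lit 3)) (.mul (.lt (nat_lit 4)) (.mul (.lt (nat_lit 3)) (.mul (.lt (nat_lit 4)) (.mul (.lt (nat_lit 3)) (.mul (.lt (nat_lit 4)) (.mul (.lt (nat_lit 3)) (.mul (.lt (nat_lit 4)) (.mul (.lt (nat_lit 3)) (.mul (.lt (nat_lit 1)) (.mul (.lt (nat_lit 3)) (.mul (.lt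 (nat_lit 3)) (.mul (.lt (nat_lit 3)) (.mul (.lt (nat_lit 3)) (.mul (.lt (nat_lit 3)) (.mul (.lt (nat_lit 0)) (.mul (.lt (nat_lit 2)) (.mul (.lt (nat_lit 4)) (.mul (.lt (nat_lit 2)) (.mul (.lt (nat_lit 2)) (.mul (.lt (nat_lit 4)) (.mul (.lt (nat_lit 2)) (.mul (.lt (nat_lit 0)) (.mul (.lt (nat_lit 2)) (.mul (.lt (nat_lit 4)) (.mul (.lt (nat_lit 0)) (.mul (.lt (nat_lit 2)) (.mul (.lt (nat_lit 4)) (.mul (.lt (nat_lit 2)) (.mul (.lt (nat_lit 2)) (.lt (nat_lit 0))))))))))))))))))))))))))))))))))))))))))))))))))))))))))))))))))))))))))))))))))))))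

/-- an element of order three -/
def e3 : PE := .mul (.lt (nat_lit 1)) (.mul (.lt (nat_lit 3)) (.mul (.lt (nat_lit 1)) (.mul (.lt (nat_lit 4)) (.mul (.lt (nat_lit 3)) (.mul (.lt (nat_lit 1)) (.mul (.lt (nat_lit 3)) (.mul (.lt (nat_lit 3)) (.mul (.lt (nat_lit 3)) (.mul (.lt (nat_lit 1)) (.mul (.lt (nat_lit 3)) (.mul (.lt (nat_lit 3)) (.mul (.lt (nat_lit 4)) (.mul (.lt (nat_lit 3)) (.mul (.lt (nat_lit 3)) (.mul (.lt (nat_lit 4)) (.mul (.lt (nat_lit 1)) (.mul (.lt (nat_lit 4)) (.mul (.lt (nat_lit 2)) (.mul (.lt (nat_lit 4)) (.mul (.lt (nat_lit 2)) (.mul (.lt (nat_lit 2)) (.mul (.lt (nat_lit 2)) (.mul (.lt (nat_lit 2)) (.mul (.lt (nat_lit 0)) (.mul (.lt (nat_lit 2)) (.mul (.lt (nat_lit 4)) (.mul (.lt (nat_lit 2)) (.mul (.lt (nat_lit 0)) (.mul (.lt (nat_lit 2)) (.mul (.lt (nat_lit 1)) (.mul (.lt (nat_lit 4)) (.mul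 (.lt (nat_lit 3)) (.mul (.lt (nat_lit 4)) (.mul (.lt (nat_lit 3)) (.mul (.lt (nat_lit 3)) (.mul (.lt (nat_lit 4)) (.mul (.lt (nat_lit 3)) (.mul (.lt (nat_lit 3)) (.mul (.lt (nat_lit 3)) (.mul (.lt (nat_lit 1)) (.mul (.lt (nat_lit 3)) (.mul (.lt (nat_lit 4)) (.mul (.lt (nat_lit 2)) (.mul (.lt (nat_lit 4)) (.mul (.lt (nat_lit 2)) (.mul (.lt (nat_lit 4)) (.mul (.lt (nat_lit 2)) (.mul (.lt (nat_lit 4)) (.mul (.lt (nat_lit 2)) (.mul (.lt (nat_lit 0)) (.mul (.lt (nat_lit 2)) (.mul (.lt (nat_lit 2)) (.mul (.lt (nat_lit 0)) (.mul (.lt (nat_lit 2)) (.mul (.lt (nat_lit 0)) (.mul (.lt (nat_lit 2)) (.mul (.lt (nat_lit 4)) (.mul (.lt (nat_lit 0)) (.mul (.lt (nat_lit 0)) (.mul (.lt (nat_lit 2)) (.mul (.lt (nat_lit 0)) (.mul (.lt (nat_lit 2)) (.mul (.lt (nat_lit 2)) (.mul (.lt (nat_lit 2)) (.mul (.lt (nat_lit 0)) (.mul (.lt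 (nat_lit 2)) (.mul (.lt (nat_lit 0)) (.mul (.lt (nat_lit 3)) (.mul (.lt (nat_lit 3)) (.mul (.lt (nat_lit 1)) (.mul (.lt (nat_lit 3)) (.mul (.lt (nat_lit 1)) (.mul (.lt (nat_lit 3)) (.mul (.lt (nat_lit 3)) (.mul (.lt (nat_lit 3)) (.mul (.lt (nat_lit 1)) (.mul (.lt (nat_lit 3)) (.mul (.lt (nat_lit 1)) (.mul (.lt (nat_lit 1)) (.mul (.lt (nat_lit 4)) (.mul (.lt (nat_lit 3)) (.mul (.lt (nat_lit 1)) (.mul (.lt (nat_lit 3)) (.mul (.lt (nat_lit 1)) (.mul (.lt (nat_lit 3)) (.mul (.lt (nat_lit 3)) (.mul (.lt (nat_lit 1)) (.mul (.lt (nat_lit 3)) (.mul (.lt (nat_lit 4)) (.mul (.lt (nat_lit 3)) (.mul (.lt (nat_lit 4)) (.mul (.lt (nat_lit 3)) (.mul (.lt (nat_lit 4)) (.mul (.lt (nat_lit 3)) (.mul (.lt (nat_lit 4)) (.mul (.lt (nat_lit 2)) (.mul (.lt (nat_lit 0)) (.mul (.lt (nat_lit 2)) (.mul (.lt (nat_lit 2)) (.mul (.lt (nat_lit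 2)) (.mul (.lt (nat_lit 4)) (.mul (.lt (nat_lit 2)) (.mul (.lt (nat_lit 2)) (.mul (.lt (nat_lit 4)) (.mul (.lt (nat_lit 2)) (.mul (.lt (nat_lit 4)) (.mul (.lt (nat_lit 0)) (.mul (.lt (nat_lit 3)) (.mul (.lt (nat_lit 1)) (.mul (.lt (nat_lit 3)) (.mul (.lt (nat_lit 4)) (.mul (.lt (nat_lit 3)) (.mul (.lt (nat_lit 1)) (.mul (.lt (nat_lit 3)) (.mul (.lt (nat_lit 3)) (.mul (.lt (nat_lit 3)) (.mul (.lt (nat_lit 3)) (.mul (.lt (nat_lit 4)) (.mul (.lt (nat_lit 3)) (.mul (.lt (nat_lit 4)) (.mul (.lt (nat_lit 0)) (.mul (.lt (nat_lit 4)) (.mul (.lt (nat_lit 2)) (.mul (.lt (nat_lit 2)) (.mul (.lt (nat_lit 4)) (.mul (.lt (nat_lit 2)) (.mul (.lt (nat_lit 2)) (.mul (.lt (nat_lit 0)) (.mul (.lt (nat_lit 2)) (.mul (.lt (nat_lit 2)) (.mul (.lt (nat_lit 2)) (.mul (.lt (nat_lit 0)) (.mul (.lt (nat_lit 2)) (.mul (.lt (nat_lit 4))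 (.mul (.lt (nat_lit 0)) (.mul (.lt (nat_lit 2)) (.lt (nat_lit 0))))))))))))))))))))))))))))))))))))))))))))))))))))))))))))))))))))))))))))))))))))))))))))))))))))))))))))))))))))))))))))))))))))))))))

/-- an element of order three -/
def e4 : PE := .mul (.lt (nat_lit 1)) (.mul (.lt (nat_lit 3)) (.mul (.lt (nat_lit 3)) (.mul (.lt (nat_lit 3)) (.mul (.lt (nat_lit 3)) (.mul (.lt (nat_lit 1)) (.mul (.lt (nat_lit 4)) (.mul (.lt (nat_lit 3)) (.mul (.lt (nat_lit 3)) (.mul (.lt (nat_lit 1)) (.mul (.lt (nat_lit 3)) (.mul (.lt (nat_lit 4)) (.mul (.lt (nat_lit 3)) (.mul (.lt (nat_lit 4)) (.mul (.lt (nat_lit 3)) (.mul (.lt (nat_lit 4)) (.mul (.lt (nat_lit 3)) (.mul (.lt (nat_lit 4)) (.mul (.lt (nat_lit 0)) (.mul (.lt (nat_lit 2)) (.mul (.lt (nat_lit 2)) (.mul (.lt (nat_lit 2)) (.mul (.lt (nat_lit 4)) (.mul (.lt (nat_lit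 0)) (.mul (.lt (nat_lit 2)) (.mul (.lt (nat_lit 2)) (.mul (.lt (nat_lit 4)) (.mul (.lt (nat_lit 2)) (.mul (.lt (nat_lit 2)) (.mul (.lt (nat_lit 2)) (.mul (.lt (nat_lit 2)) (.mul (.lt (nat_lit 4)) (.mul (.lt (nat_lit 0)) (.mul (.lt (nat_lit 3)) (.mul (.lt (nat_lit 3)) (.mul (.lt (nat_lit 3)) (.mul (.lt (nat_lit 3)) (.mul (.lt (nat_lit 1)) (.mul (.lt (nat_lit 3)) (.mul (.lt (nat_lit 1)) (.mul (.lt (nat_lit 3)) (.mul (.lt (nat_lit 4)) (.mul (.lt (nat_lit 3)) (.mul (.lt (nat_lit 4)) (.mul (.lt (nat_lit 3)) (.mul (.lt (nat_lit 4)) (.mul (.lt (nat_lit 3)) (.mul (.lt (nat_lit 3)) (.mul (.lt (nat_lit 6)) (.mul (.lt (nat_lit 4)) (.mul (.lt (nat_lit 3)) (.mul (.lt (nat_lit 4)) (.mul (.lt (nat_lit 2)) (.mul (.lt (nat_lit 5)) (.mul (.lt (nat_lit 1)) (.mul (.lt (nat_lit 1)) (.mul (.lt (nat_lit 6)) (.mul (.lt (nat_lit 3))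 (.mul (.lt (nat_lit 4)) (.mul (.lt (nat_lit 2)) (.mul (.lt (nat_lit 4)) (.mul (.lt (nat_lit 5)) (.mul (.lt (nat_lit 1)) (.mul (.lt (nat_lit 1)) (.mul (.lt (nat_lit 4)) (.mul (.lt (nat_lit 3)) (.mul (.lt (nat_lit 3)) (.mul (.lt (nat_lit 4)) (.mul (.lt (nat_lit 3)) (.mul (.lt (nat_lit 4)) (.mul (.lt (nat_lit 3)) (.mul (.lt (nat_lit 4)) (.mul (.lt (nat_lit 3)) (.mul (.lt (nat_lit 4)) (.mul (.lt (nat_lit 3)) (.mul (.lt (nat_lit 1)) (.mul (.lt (nat_lit 3)) (.mul (.lt (nat_lit 3)) (.mul (.lt (nat_lit 3)) (.mul (.lt (nat_lit 3)) (.mul (.lt (nat_lit 3)) (.mul (.lt (nat_lit 0)) (.mul (.lt (nat_lit 2)) (.mul (.lt (nat_lit 4)) (.mul (.lt (nat_lit 2)) (.mul (.lt (nat_lit 2)) (.mul (.lt (nat_lit 4)) (.mul (.lt (nat_lit 2)) (.mul (.lt (nat_lit 0)) (.mul (.lt (nat_lit 2)) (.mul (.lt (nat_lit 4)) (.mul (.lt (nat_lit 0)) (.mul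 (.lt (nat_lit 2)) (.mul (.lt (nat_lit 4)) (.mul (.lt (nat_lit 2)) (.mul (.lt (nat_lit 2)) (.mul (.lt (nat_lit 0)) (.mul (.lt (nat_lit 6)) (.mul (.lt (nat_lit 4)) (.mul (.lt (nat_lit 3)) (.mul (.lt (nat_lit 4)) (.mul (.lt (nat_lit 2)) (.mul (.lt (nat_lit 5)) (.mul (.lt (nat_lit 1)) (.mul (.lt (nat_lit 1)) (.mul (.lt (nat_lit 6)) (.mul (.lt (nat_lit 3)) (.mul (.lt (nat_lit 4)) (.mul (.lt (nat_lit 2)) (.mul (.lt (nat_lit 4)) (.mul (.lt (nat_lit 5)) (.mul (.lt (nat_lit 4)) (.mul (.lt (nat_lit 3)) (.mul (.lt (nat_lit 3)) (.mul (.lt (nat_lit 4)) (.mul (.lt (nat_lit 3)) (.mul (.lt (nat_lit 4)) (.mul (.lt (nat_lit 3)) (.mul (.lt (nat_lit 4)) (.mul (.lt (nat_lit 3)) (.mul (.lt (nat_lit 4)) (.mul (.lt (nat_lit 3)) (.mul (.lt (nat_lit 1)) (.mul (.lt (nat_lit 3)) (.mul (.lt (nat_lit 3)) (.mul (.lt (nat_lit 3)) (.mul (.lt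 (nat_lit 3)) (.mul (.lt (nat_lit 3)) (.mul (.lt (nat_lit 0)) (.mul (.lt (nat_lit 2)) (.mul (.lt (nat_lit 4)) (.mul (.lt (nat_lit 2)) (.mul (.lt (nat_lit 2)) (.mul (.lt (nat_lit 4)) (.mul (.lt (nat_lit 2)) (.mul (.lt (nat_lit 0)) (.mul (.lt (nat_lit 2)) (.mul (.lt (nat_lit 4)) (.mul (.lt (nat_lit 0)) (.mul (.lt (nat_lit 2)) (.mul (.lt (nat_lit 4)) (.mul (.lt (nat_lit 2)) (.mul (.lt (nat_lit 2)) (.mul (.lt (nat_lit 0)) (.mul (.lt (nat_lit 6)) (.mul (.lt (nat_lit 4)) (.mul (.lt (nat_lit 3)) (.mul (.lt (nat_lit 4)) (.mul (.lt (nat_lit 2)) (.mul (.lt (nat_lit 5)) (.mul (.lt (nat_lit 1)) (.mul (.lt (nat_lit 1)) (.mul (.lt (nat_lit 6)) (.mul (.lt (nat_lit 3)) (.mul (.lt (nat_lit 4)) (.mul (.lt (nat_lit 2)) (.mul (.lt (nat_lit 4)) (.mul (.lt (nat_lit 5)) (.mul (.lt (nat_lit 0)) (.mul (.lt (nat_lit 2)) (.mul (.lt (nat_lit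 0)) (.mul (.lt (nat_lit 2)) (.mul (.lt (nat_lit 2)) (.mul (.lt (nat_lit 2)) (.mul (.lt (nat_lit 0)) (.mul (.lt (nat_lit 2)) (.mul (.lt (nat_lit 0)) (.mul (.lt (nat_lit 3)) (.mul (.lt (nat_lit 3)) (.mul (.lt (nat_lit 1)) (.mul (.lt (nat_lit 3)) (.mul (.lt (nat_lit 1)) (.mul (.lt (nat_lit 3)) (.mul (.lt (nat_lit 3)) (.mul (.lt (nat_lit 3)) (.mul (.lt (nat_lit 1)) (.mul (.lt (nat_lit 3)) (.mul (.lt (nat_lit 1)) (.mul (.lt (nat_lit 6)) (.mul (.lt (nat_lit 4)) (.mul (.lt (nat_lit 3)) (.mul (.lt (nat_lit 4)) (.mul (.lt (nat_lit 2)) (.mul (.lt (nat_lit 5)) (.mul (.lt (nat_lit 0)) (.mul (.lt (nat_lit 0)) (.mul (.lt (nat_lit 6)) (.mul (.lt (nat_lit 3)) (.mul (.lt (nat_lit 4)) (.mul (.lt (nat_lit 2)) (.mul (.lt (nat_lit 4)) (.mul (.lt (nat_lit 5)) (.mul (.lt (nat_lit 1)) (.mul (.lt (nat_lit 3)) (.mul (.lt (nat_lit 3))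 (.mul (.lt (nat_lit 4)) (.mul (.lt (nat_lit 3)) (.mul (.lt (nat_lit 1)) (.mul (.lt (nat_lit 4)) (.mul (.lt (nat_lit 3)) (.mul (.lt (nat_lit 1)) (.mul (.lt (nat_lit 3)) (.mul (.lt (nat_lit 4)) (.mul (.lt (nat_lit 3)) (.mul (.lt (nat_lit 3)) (.mul (.lt (nat_lit 4)) (.mul (.lt (nat_lit 3)) (.mul (.lt (nat_lit 1)) (.mul (.lt (nat_lit 2)) (.mul (.lt (nat_lit 2)) (.mul (.lt (nat_lit 2)) (.mul (.lt (nat_lit 2)) (.mul (.lt (nat_lit 2)) (.mul (.lt (nat_lit 0)) (.mul (.lt (nat_lit 2)) (.mul (.lt (nat_lit 4)) (.mul (.lt (nat_lit 2)) (.mul (.lt (nat_lit 4)) (.mul (.lt (nat_lit 2)) (.mul (.lt (nat_lit 4)) (.mul (.lt (nat_lit 2)) (.mul (.lt (nat_lit 4)) (.mul (.lt (nat_lit 2)) (.mul (.lt (nat_lit 2)) (.mul (.lt (nat_lit 4)) (.mul (.lt (nat_lit 6)) (.mul (.lt (nat_lit 4)) (.mul (.lt (nat_lit 3)) (.mul (.lt (nat_lit 4)) (.mul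 (.lt (nat_lit 2)) (.mul (.lt (nat_lit 5)) (.mul (.lt (nat_lit 0)) (.mul (.lt (nat_lit 0)) (.mul (.lt (nat_lit 6)) (.mul (.lt (nat_lit 3)) (.mul (.lt (nat_lit 4)) (.mul (.lt (nat_lit 2)) (.mul (.lt (nat_lit 4)) (.mul (.lt (nat_lit 5)) (.mul (.lt (nat_lit 1)) (.mul (.lt (nat_lit 3)) (.mul (.lt (nat_lit 3)) (.mul (.lt (nat_lit 4)) (.mul (.lt (nat_lit 3)) (.mul (.lt (nat_lit 1)) (.mul (.lt (nat_lit 4)) (.mul (.lt (nat_lit 3)) (.mul (.lt (nat_lit 1)) (.mul (.lt (nat_lit 3)) (.mul (.lt (nat_lit 4)) (.mul (.lt (nat_lit 3)) (.mul (.lt (nat_lit 3)) (.mul (.lt (nat_lit 4)) (.mul (.lt (nat_lit 3)) (.mul (.lt (nat_lit 1)) (.mul (.lt (nat_lit 2)) (.mul (.lt (nat_lit 2)) (.mul (.lt (nat_lit 2)) (.mul (.lt (nat_lit 2)) (.mul (.lt (nat_lit 2)) (.mul (.lt (nat_lit 0)) (.mul (.lt (nat_lit 2)) (.mul (.lt (nat_lit 4)) (.mul (.lt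 (nat_lit 2)) (.mul (.lt (nat_lit 4)) (.mul (.lt (nat_lit 2)) (.mul (.lt (nat_lit 4)) (.mul (.lt (nat_lit 2)) (.mul (.lt (nat_lit 4)) (.mul (.lt (nat_lit 2)) (.mul (.lt (nat_lit 2)) (.mul (.lt (nat_lit 4)) (.mul (.lt (nat_lit 0)) (.mul (.lt (nat_lit 0)) (.mul (.lt (nat_lit 6)) (.mul (.lt (nat_lit 4)) (.mul (.lt (nat_lit 3)) (.mul (.lt (nat_lit 4)) (.mul (.lt (nat_lit 2)) (.mul (.lt (nat_lit 5)) (.mul (.lt (nat_lit 0)) (.mul (.lt (nat_lit 0)) (.mul (.lt (nat_lit 6)) (.mul (.lt (nat_lit 3)) (.mul (.lt (nat_lit 4)) (.mul (.lt (nat_lit 2)) (.mul (.lt (nat_lit 4)) (.mul (.lt (nat_lit 5)) (.mul (.lt (nat_lit 2)) (.mul (.lt (nat_lit 2)) (.mul (.lt (nat_lit 4)) (.mul (.lt (nat_lit 2)) (.mul (.lt (nat_lit 4)) (.mul (.lt (nat_lit 2)) (.mul (.lt (nat_lit 4)) (.mul (.lt (nat_lit 2)) (.mul (.lt (nat_lit 0)) (.mul (.lt (nat_lit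 2)) (.mul (.lt (nat_lit 0)) (.mul (.lt (nat_lit 2)) (.mul (.lt (nat_lit 2)) (.mul (.lt (nat_lit 2)) (.mul (.lt (nat_lit 2)) (.mul (.lt (nat_lit 1)) (.mul (.lt (nat_lit 4)) (.mul (.lt (nat_lit 3)) (.mul (.lt (nat_lit 3)) (.mul (.lt (nat_lit 3)) (.mul (.lt (nat_lit 3)) (.mul (.lt (nat_lit 4)) (.mul (.lt (nat_lit 3)) (.mul (.lt (nat_lit 3)) (.mul (.lt (nat_lit 1)) (.mul (.lt (nat_lit 4)) (.mul (.lt (nat_lit 3)) (.mul (.lt (nat_lit 3)) (.mul (.lt (nat_lit 3)) (.mul (.lt (nat_lit 1)) (.mul (.lt (nat_lit 4)) (.mul (.lt (nat_lit 2)) (.mul (.lt (nat_lit 4)) (.mul (.lt (nat_lit 2)) (.mul (.lt (nat_lit 4)) (.mul (.lt (nat_lit 2)) (.mul (.lt (nat_lit 4)) (.mul (.lt (nat_lit 2)) (.mul (.lt (nat_lit 0)) (.mul (.lt (nat_lit 2)) (.mul (.lt (nat_lit 2)) (.mul (.lt (nat_lit 4)) (.mul (.lt (nat_lit 0)) (.mul (.lt (nat_lit 2))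 (.mul (.lt (nat_lit 2)) (.mul (.lt (nat_lit 2)) (.mul (.lt (nat_lit 2)) (.lt (nat_lit 0))))))))))))))))))))))))))))))))))))))))))))))))))))))))))))))))))))))))))))))))))))))))))))))))))))))))))))))))))))))))))))))))))))))))))))))))))))))))))))))))))))))))))))))))))))))))))))))))))))))))))))))))))))))))))))))))))))))))))))))))))))))))))))))))))))))))))))))))))))))))))))))))))))))))))))))))))))))))))))))))))))))))))))))))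

/-- an element of order three -/
def e5 : PE := .mul (.lt (nat_lit 1)) (.mul (.lt (nat_lit 3)) (.mul (.lt (nat_lit 3)) (.mul (.lt (nat_lit 1)) (.mul (.lt (nat_lit 3)) (.mul (.lt (nat_lit 4)) (.mul (.lt (nat_lit 3)) (.mul (.lt (nat_lit 1)) (.mul (.lt (nat_lit 3)) (.mul (.lt (nat_lit 3)) (.mul (.lt (nat_lit 3)) (.mul (.lt (nat_lit 3)) (.mul (.lt (nat_lit 4)) (.mul (.lt (nat_lit 3)) (.mul (.lt (nat_lit 4)) (.mul (.lt (nat_lit 0)) (.mul (.lt (nat_lit 4)) (.mul (.lt (nat_lit 2)) (.mul (.lt (nat_lit 2)) (.mul (.lt (nat_lit 4)) (.mul (.lt (nat_lit 2)) (.mul (.lt (nat_lit 2)) (.mul (.lt (nat_lit 0)) (.mul (.lt (nat_lit 2)) (.mul (.lt (nat_lit 2)) (.mul (.lt (nat_lit 2)) (.mul (.lt (nat_lit 0)) (.mul (.lt (nat_lit 2)) (.mul (.lt (nat_lit 4)) (.mul (.lt (nat_lit 0)) (.mul (.lt (nat_lit 3)) (.mul (.lt (nat_lit 3)) (.mul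 (.lt (nat_lit 3)) (.mul (.lt (nat_lit 3)) (.mul (.lt (nat_lit 1)) (.mul (.lt (nat_lit 3)) (.mul (.lt (nat_lit 1)) (.mul (.lt (nat_lit 3)) (.mul (.lt (nat_lit 4)) (.mul (.lt (nat_lit 3)) (.mul (.lt (nat_lit 4)) (.mul (.lt (nat_lit 3)) (.mul (.lt (nat_lit 4)) (.mul (.lt (nat_lit 3)) (.mul (.lt (nat_lit 3)) (.mul (.lt (nat_lit 6)) (.mul (.lt (nat_lit 4)) (.mul (.lt (nat_lit 3)) (.mul (.lt (nat_lit 4)) (.mul (.lt (nat_lit 2)) (.mul (.lt (nat_lit 5)) (.mul (.lt (nat_lit 1)) (.mul (.lt (nat_lit 1)) (.mul (.lt (nat_lit 6)) (.mul (.lt (nat_lit 3)) (.mul (.lt (nat_lit 4)) (.mul (.lt (nat_lit 2)) (.mul (.lt (nat_lit 4)) (.mul (.lt (nat_lit 5)) (.mul (.lt (nat_lit 1)) (.mul (.lt (nat_lit 1)) (.mul (.lt (nat_lit 4)) (.mul (.lt (nat_lit 3)) (.mul (.lt (nat_lit 3)) (.mul (.lt (nat_lit 4)) (.mul (.lt (nat_lit 3)) (.mul (.lt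 (nat_lit 4)) (.mul (.lt (nat_lit 3)) (.mul (.lt (nat_lit 4)) (.mul (.lt (nat_lit 3)) (.mul (.lt (nat_lit 4)) (.mul (.lt (nat_lit 3)) (.mul (.lt (nat_lit 1)) (.mul (.lt (nat_lit 3)) (.mul (.lt (nat_lit 3)) (.mul (.lt (nat_lit 3)) (.mul (.lt (nat_lit 3)) (.mul (.lt (nat_lit 3)) (.mul (.lt (nat_lit 0)) (.mul (.lt (nat_lit 2)) (.mul (.lt (nat_lit 4)) (.mul (.lt (nat_lit 2)) (.mul (.lt (nat_lit 2)) (.mul (.lt (nat_lit 4)) (.mul (.lt (nat_lit 2)) (.mul (.lt (nat_lit 0)) (.mul (.lt (nat_lit 2)) (.mul (.lt (nat_lit 4)) (.mul (.lt (nat_lit 0)) (.mul (.lt (nat_lit 2)) (.mul (.lt (nat_lit 4)) (.mul (.lt (nat_lit 2)) (.mul (.lt (nat_lit 2)) (.mul (.lt (nat_lit 0)) (.mul (.lt (nat_lit 6)) (.mul (.lt (nat_lit 4)) (.mul (.lt (nat_lit 3)) (.mul (.lt (nat_lit 4)) (.mul (.lt (nat_lit 2)) (.mul (.lt (nat_lit 5)) (.mul (.lt (nat_lit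 1)) (.mul (.lt (nat_lit 1)) (.mul (.lt (nat_lit 6)) (.mul (.lt (nat_lit 3)) (.mul (.lt (nat_lit 4)) (.mul (.lt (nat_lit 2)) (.mul (.lt (nat_lit 4)) (.mul (.lt (nat_lit 5)) (.mul (.lt (nat_lit 4)) (.mul (.lt (nat_lit 3)) (.mul (.lt (nat_lit 3)) (.mul (.lt (nat_lit 4)) (.mul (.lt (nat_lit 3)) (.mul (.lt (nat_lit 4)) (.mul (.lt (nat_lit 3)) (.mul (.lt (nat_lit 4)) (.mul (.lt (nat_lit 3)) (.mul (.lt (nat_lit 4)) (.mul (.lt (nat_lit 3)) (.mul (.lt (nat_lit 1)) (.mul (.lt (nat_lit 3)) (.mul (.lt (nat_lit 3)) (.mul (.lt (nat_lit 3)) (.mul (.lt (nat_lit 3)) (.mul (.lt (nat_lit 3)) (.mul (.lt (nat_lit 0)) (.mul (.lt (nat_lit 2)) (.mul (.lt (nat_lit 4)) (.mul (.lt (nat_lit 2)) (.mul (.lt (nat_lit 2)) (.mul (.lt (nat_lit 4)) (.mul (.lt (nat_lit 2)) (.mul (.lt (nat_lit 0)) (.mul (.lt (nat_lit 2)) (.mul (.lt (nat_lit 4))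 (.mul (.lt (nat_lit 0)) (.mul (.lt (nat_lit 2)) (.mul (.lt (nat_lit 4)) (.mul (.lt (nat_lit 2)) (.mul (.lt (nat_lit 2)) (.mul (.lt (nat_lit 0)) (.mul (.lt (nat_lit 6)) (.mul (.lt (nat_lit 4)) (.mul (.lt (nat_lit 3)) (.mul (.lt (nat_lit 4)) (.mul (.lt (nat_lit 2)) (.mul (.lt (nat_lit 5)) (.mul (.lt (nat_lit 1)) (.mul (.lt (nat_lit 1)) (.mul (.lt (nat_lit 6)) (.mul (.lt (nat_lit 3)) (.mul (.lt (nat_lit 4)) (.mul (.lt (nat_lit 2)) (.mul (.lt (nat_lit 4)) (.mul (.lt (nat_lit 5)) (.mul (.lt (nat_lit 0)) (.mul (.lt (nat_lit 2)) (.mul (.lt (nat_lit 0)) (.mul (.lt (nat_lit 2)) (.mul (.lt (nat_lit 2)) (.mul (.lt (nat_lit 2)) (.mul (.lt (nat_lit 0)) (.mul (.lt (nat_lit 2)) (.mul (.lt (nat_lit 0)) (.mul (.lt (nat_lit 3)) (.mul (.lt (nat_lit 3)) (.mul (.lt (nat_lit 1)) (.mul (.lt (nat_lit 3)) (.mul (.lt (nat_lit 1)) (.mul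 (.lt (nat_lit 3)) (.mul (.lt (nat_lit 3)) (.mul (.lt (nat_lit 3)) (.mul (.lt (nat_lit 1)) (.mul (.lt (nat_lit 3)) (.mul (.lt (nat_lit 1)) (.mul (.lt (nat_lit 6)) (.mul (.lt (nat_lit 4)) (.mul (.lt (nat_lit 3)) (.mul (.lt (nat_lit 4)) (.mul (.lt (nat_lit 2)) (.mul (.lt (nat_lit 5)) (.mul (.lt (nat_lit 0)) (.mul (.lt (nat_lit 0)) (.mul (.lt (nat_lit 6)) (.mul (.lt (nat_lit 3)) (.mul (.lt (nat_lit 4)) (.mul (.lt (nat_lit 2)) (.mul (.lt (nat_lit 4)) (.mul (.lt (nat_lit 5)) (.mul (.lt (nat_lit 1)) (.mul (.lt (nat_lit 3)) (.mul (.lt (nat_lit 3)) (.mul (.lt (nat_lit 4)) (.mul (.lt (nat_lit 3)) (.mul (.lt (nat_lit 1)) (.mul (.lt (nat_lit 4)) (.mul (.lt (nat_lit 3)) (.mul (.lt (nat_lit 1)) (.mul (.lt (nat_lit 3)) (.mul (.lt (nat_lit 4)) (.mul (.lt (nat_lit 3)) (.mul (.lt (nat_lit 3)) (.mul (.lt (nat_lit 4)) (.mul (.lt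 (nat_lit 3)) (.mul (.lt (nat_lit 1)) (.mul (.lt (nat_lit 2)) (.mul (.lt (nat_lit 2)) (.mul (.lt (nat_lit 2)) (.mul (.lt (nat_lit 2)) (.mul (.lt (nat_lit 2)) (.mul (.lt (nat_lit 0)) (.mul (.lt (nat_lit 2)) (.mul (.lt (nat_lit 4)) (.mul (.lt (nat_lit 2)) (.mul (.lt (nat_lit 4)) (.mul (.lt (nat_lit 2)) (.mul (.lt (nat_lit 4)) (.mul (.lt (nat_lit 2)) (.mul (.lt (nat_lit 4)) (.mul (.lt (nat_lit 2)) (.mul (.lt (nat_lit 2)) (.mul (.lt (nat_lit 4)) (.mul (.lt (nat_lit 6)) (.mul (.lt (nat_lit 4)) (.mul (.lt (nat_lit 3)) (.mul (.lt (nat_lit 4)) (.mul (.lt (nat_lit 2)) (.mul (.lt (nat_lit 5)) (.mul (.lt (nat_lit 0)) (.mul (.lt (nat_lit 0)) (.mul (.lt (nat_lit 6)) (.mul (.lt (nat_lit 3)) (.mul (.lt (nat_lit 4)) (.mul (.lt (nat_lit 2)) (.mul (.lt (nat_lit 4)) (.mul (.lt (nat_lit 5)) (.mul (.lt (nat_lit 1)) (.mul (.lt (nat_lit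 3)) (.mul (.lt (nat_lit 3)) (.mul (.lt (nat_lit 4)) (.mul (.lt (nat_lit 3)) (.mul (.lt (nat_lit 1)) (.mul (.lt (nat_lit 4)) (.mul (.lt (nat_lit 3)) (.mul (.lt (nat_lit 1)) (.mul (.lt (nat_lit 3)) (.mul (.lt (nat_lit 4)) (.mul (.lt (nat_lit 3)) (.mul (.lt (nat_lit 3)) (.mul (.lt (nat_lit 4)) (.mul (.lt (nat_lit 3)) (.mul (.lt (nat_lit 1)) (.mul (.lt (nat_lit 2)) (.mul (.lt (nat_lit 2)) (.mul (.lt (nat_lit 2)) (.mul (.lt (nat_lit 2)) (.mul (.lt (nat_lit 2)) (.mul (.lt (nat_lit 0)) (.mul (.lt (nat_lit 2)) (.mul (.lt (nat_lit 4)) (.mul (.lt (nat_lit 2)) (.mul (.lt (nat_lit 4)) (.mul (.lt (nat_lit 2)) (.mul (.lt (nat_lit 4)) (.mul (.lt (nat_lit 2)) (.mul (.lt (nat_lit 4)) (.mul (.lt (nat_lit 2)) (.mul (.lt (nat_lit 2)) (.mul (.lt (nat_lit 4)) (.mul (.lt (nat_lit 0)) (.mul (.lt (nat_lit 0)) (.mul (.lt (nat_lit 6))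 (.mul (.lt (nat_lit 4)) (.mul (.lt (nat_lit 3)) (.mul (.lt (nat_lit 4)) (.mul (.lt (nat_lit 2)) (.mul (.lt (nat_lit 5)) (.mul (.lt (nat_lit 0)) (.mul (.lt (nat_lit 0)) (.mul (.lt (nat_lit 6)) (.mul (.lt (nat_lit 3)) (.mul (.lt (nat_lit 4)) (.mul (.lt (nat_lit 2)) (.mul (.lt (nat_lit 4)) (.mul (.lt (nat_lit 5)) (.mul (.lt (nat_lit 2)) (.mul (.lt (nat_lit 2)) (.mul (.lt (nat_lit 4)) (.mul (.lt (nat_lit 2)) (.mul (.lt (nat_lit 4)) (.mul (.lt (nat_lit 2)) (.mul (.lt (nat_lit 4)) (.mul (.lt (nat_lit 2)) (.mul (.lt (nat_lit 0)) (.mul (.lt (nat_lit 2)) (.mul (.lt (nat_lit 0)) (.mul (.lt (nat_lit 2)) (.mul (.lt (nat_lit 2)) (.mul (.lt (nat_lit 2)) (.mul (.lt (nat_lit 2)) (.mul (.lt (nat_lit 1)) (.mul (.lt (nat_lit 4)) (.mul (.lt (nat_lit 3)) (.mul (.lt (nat_lit 1)) (.mul (.lt (nat_lit 3)) (.mul (.lt (nat_lit 3)) (.mul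 (.lt (nat_lit 3)) (.mul (.lt (nat_lit 1)) (.mul (.lt (nat_lit 3)) (.mul (.lt (nat_lit 3)) (.mul (.lt (nat_lit 4)) (.mul (.lt (nat_lit 3)) (.mul (.lt (nat_lit 3)) (.mul (.lt (nat_lit 4)) (.mul (.lt (nat_lit 1)) (.mul (.lt (nat_lit 4)) (.mul (.lt (nat_lit 2)) (.mul (.lt (nat_lit 4)) (.mul (.lt (nat_lit 2)) (.mul (.lt (nat_lit 2)) (.mul (.lt (nat_lit 2)) (.mul (.lt (nat_lit 2)) (.mul (.lt (nat_lit 0)) (.mul (.lt (nat_lit 2)) (.mul (.lt (nat_lit 4)) (.mul (.lt (nat_lit 2)) (.mul (.lt (nat_lit 0)) (.mul (.lt (nat_lit 2)) (.mul (.lt (nat_lit 2)) (.lt (nat_lit 0))))))))))))))))))))))))))))))))))))))))))))))))))))))))))))))))))))))))))))))))))))))))))))))))))))))))))))))))))))))))))))))))))))))))))))))))))))))))))))))))))))))))))))))))))))))))))))))))))))))))))))))))))))))))))))))))))))))))))))))))))))))))))))))))))))))))))))))))))))))))))))))))))))))))))))))))))))))))))))))))))))))))))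

/-- an element of order three -/
def e6 : PE := .mul (.lt (nat_lit 1)) (.mul (.lt (nat_lit 3)) (.mul (.lt (nat_lit 3)) (.mul (.lt (nat_lit 3)) (.mul (.lt (nat_lit 3)) (.mul (.lt (nat_lit 1)) (.mul (.lt (nat_lit 4)) (.mul (.lt (nat_lit 3)) (.mul (.lt (nat_lit 3)) (.mul (.lt (nat_lit 1)) (.mul (.lt (nat_lit 3)) (.mul (.lt (nat_lit 4)) (.mul (.lt (nat_lit 3)) (.mul (.lt (nat_lit 4)) (.mul (.lt (nat_lit 3)) (.mul (.lt (nat_lit 4)) (.mul (.lt (nat_lit 3)) (.mul (.lt (nat_lit 4)) (.mul (.lt (nat_lit 0)) (.mul (.lt (nat_lit 2)) (.mul (.lt (nat_lit 2)) (.mul (.lt (nat_lit 2)) (.mul (.lt (nat_lit 4)) (.mul (.lt (nat_lit 0)) (.mul (.lt (nat_lit 2)) (.mul (.lt (nat_lit 2)) (.mul (.lt (nat_lit 4)) (.mul (.lt (nat_lit 2)) (.mul (.lt (nat_lit 2)) (.mul (.lt (nat_lit 2)) (.mul (.lt (nat_lit 2)) (.mul (.lt (nat_lit 4)) (.mul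 (.lt (nat_lit 0)) (.mul (.lt (nat_lit 2)) (.mul (.lt (nat_lit 4)) (.mul (.lt (nat_lit 3)) (.mul (.lt (nat_lit 1)) (.mul (.lt (nat_lit 3)) (.mul (.lt (nat_lit 1)) (.mul (.lt (nat_lit 3)) (.mul (.lt (nat_lit 3)) (.mul (.lt (nat_lit 1)) (.mul (.lt (nat_lit 3)) (.mul (.lt (nat_lit 4)) (.mul (.lt (nat_lit 3)) (.mul (.lt (nat_lit 4)) (.mul (.lt (nat_lit 3)) (.mul (.lt (nat_lit 4)) (.mul (.lt (nat_lit 3)) (.mul (.lt (nat_lit 4)) (.mul (.lt (nat_lit 2)) (.mul (.lt (nat_lit 0)) (.mul (.lt (nat_lit 2)) (.mul (.lt (nat_lit 2)) (.mul (.lt (nat_lit 2)) (.mul (.lt (nat_lit 4)) (.mul (.lt (nat_lit 2)) (.mul (.lt (nat_lit 2)) (.mul (.lt (nat_lit 4)) (.mul (.lt (nat_lit 2)) (.mul (.lt (nat_lit 4)) (.mul (.lt (nat_lit 0)) (.mul (.lt (nat_lit 2)) (.mul (.lt (nat_lit 0)) (.mul (.lt (nat_lit 0)) (.mul (.lt (nat_lit 2)) (.mul (.lt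 (nat_lit 0)) (.mul (.lt (nat_lit 2)) (.mul (.lt (nat_lit 2)) (.mul (.lt (nat_lit 2)) (.mul (.lt (nat_lit 0)) (.mul (.lt (nat_lit 2)) (.mul (.lt (nat_lit 0)) (.mul (.lt (nat_lit 3)) (.mul (.lt (nat_lit 3)) (.mul (.lt (nat_lit 1)) (.mul (.lt (nat_lit 3)) (.mul (.lt (nat_lit 1)) (.mul (.lt (nat_lit 3)) (.mul (.lt (nat_lit 3)) (.mul (.lt (nat_lit 3)) (.mul (.lt (nat_lit 1)) (.mul (.lt (nat_lit 3)) (.mul (.lt (nat_lit 1)) (.mul (.lt (nat_lit 1)) (.mul (.lt (nat_lit 3)) (.mul (.lt (nat_lit 1)) (.mul (.lt (nat_lit 4)) (.mul (.lt (nat_lit 3)) (.mul (.lt (nat_lit 4)) (.mul (.lt (nat_lit 3)) (.mul (.lt (nat_lit 3)) (.mul (.lt (nat_lit 4)) (.mul (.lt (nat_lit 3)) (.mul (.lt (nat_lit 3)) (.mul (.lt (nat_lit 3)) (.mul (.lt (nat_lit 1)) (.mul (.lt (nat_lit 3)) (.mul (.lt (nat_lit 4)) (.mul (.lt (nat_lit 2)) (.mul (.lt (nat_lit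 4)) (.mul (.lt (nat_lit 2)) (.mul (.lt (nat_lit 4)) (.mul (.lt (nat_lit 2)) (.mul (.lt (nat_lit 4)) (.mul (.lt (nat_lit 2)) (.mul (.lt (nat_lit 0)) (.mul (.lt (nat_lit 2)) (.mul (.lt (nat_lit 2)) (.mul (.lt (nat_lit 0)) (.mul (.lt (nat_lit 2)) (.mul (.lt (nat_lit 0)) (.mul (.lt (nat_lit 2)) (.mul (.lt (nat_lit 4)) (.mul (.lt (nat_lit 3)) (.mul (.lt (nat_lit 1)) (.mul (.lt (nat_lit 4)) (.mul (.lt (nat_lit 3)) (.mul (.lt (nat_lit 3)) (.mul (.lt (nat_lit 3)) (.mul (.lt (nat_lit 3)) (.mul (.lt (nat_lit 4)) (.mul (.lt (nat_lit 3)) (.mul (.lt (nat_lit 3)) (.mul (.lt (nat_lit 1)) (.mul (.lt (nat_lit 4)) (.mul (.lt (nat_lit 3)) (.mul (.lt (nat_lit 3)) (.mul (.lt (nat_lit 3)) (.mul (.lt (nat_lit 1)) (.mul (.lt (nat_lit 4)) (.mul (.lt (nat_lit 2)) (.mul (.lt (nat_lit 4)) (.mul (.lt (nat_lit 2)) (.mul (.lt (nat_lit 4))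 (.mul (.lt (nat_lit 2)) (.mul (.lt (nat_lit 4)) (.mul (.lt (nat_lit 2)) (.mul (.lt (nat_lit 0)) (.mul (.lt (nat_lit 2)) (.mul (.lt (nat_lit 2)) (.mul (.lt (nat_lit 4)) (.mul (.lt (nat_lit 0)) (.mul (.lt (nat_lit 2)) (.mul (.lt (nat_lit 2)) (.mul (.lt (nat_lit 2)) (.mul (.lt (nat_lit 2)) (.lt (nat_lit 0))))))))))))))))))))))))))))))))))))))))))))))))))))))))))))))))))))))))))))))))))))))))))))))))))))))))))))))))))))))))))))))))))))))))))))))))))))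

/-- an element of order three -/
def e7 : PE := .mul (.lt (nat_lit 1)) (.mul (.lt (nat_lit 3)) (.mul (.lt (nat_lit 1)) (.mul (.lt (nat_lit 4)) (.mul (.lt (nat_lit 3)) (.mul (.lt (nat_lit 4)) (.mul (.lt (nat_lit 3)) (.mul (.lt (nat_lit 3)) (.mul (.lt (nat_lit 4)) (.mul (.lt (nat_lit 3)) (.mul (.lt (nat_lit 3)) (.mul (.lt (nat_lit 3)) (.mul (.lt (nat_lit 1)) (.mul (.lt (nat_lit 3)) (.mul (.lt (nat_lit 4)) (.mul (.lt (nat_lit 2)) (.mul (.lt (nat_lit 4)) (.mul (.lt (nat_lit 2)) (.mul (.lt (nat_lit 4)) (.mul (.lt (nat_lit 2)) (.mul (.lt (nat_lit 4)) (.mul (.lt (nat_lit 2)) (.mul (.lt (nat_lit 0)) (.mul (.lt (nat_lit 2)) (.mul (.lt (nat_lit 2)) (.mul (.lt (nat_lit 0)) (.mul (.lt (nat_lit 2)) (.mul (.lt (nat_lit 0)) (.mul (.lt (nat_lit 2)) (.mul (.lt (nat_lit 4)) (.mul (.lt (nat_lit 3)) (.mul (.lt (nat_lit 3)) (.mul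 (.lt (nat_lit 3)) (.mul (.lt (nat_lit 3)) (.mul (.lt (nat_lit 3)) (.mul (.lt (nat_lit 1)) (.mul (.lt (nat_lit 3)) (.mul (.lt (nat_lit 1)) (.mul (.lt (nat_lit 3)) (.mul (.lt (nat_lit 4)) (.mul (.lt (nat_lit 3)) (.mul (.lt (nat_lit 4)) (.mul (.lt (nat_lit 3)) (.mul (.lt (nat_lit 4)) (.mul (.lt (nat_lit 3)) (.mul (.lt (nat_lit 3)) (.mul (.lt (nat_lit 6)) (.mul (.lt (nat_lit 4)) (.mul (.lt (nat_lit 3)) (.mul (.lt (nat_lit 4)) (.mul (.lt (nat_lit 2)) (.mul (.lt (nat_lit 5)) (.mul (.lt (nat_lit 1)) (.mul (.lt (nat_lit 1)) (.mul (.lt (nat_lit 6)) (.mul (.lt (nat_lit 3)) (.mul (.lt (nat_lit 4)) (.mul (.lt (nat_lit 2)) (.mul (.lt (nat_lit 4)) (.mul (.lt (nat_lit 5)) (.mul (.lt (nat_lit 1)) (.mul (.lt (nat_lit 1)) (.mul (.lt (nat_lit 4)) (.mul (.lt (nat_lit 3)) (.mul (.lt (nat_lit 3)) (.mul (.lt (nat_lit 4)) (.mul (.lt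 (nat_lit 3)) (.mul (.lt (nat_lit 4)) (.mul (.lt (nat_lit 3)) (.mul (.lt (nat_lit 4)) (.mul (.lt (nat_lit 3)) (.mul (.lt (nat_lit 4)) (.mul (.lt (nat_lit 3)) (.mul (.lt (nat_lit 1)) (.mul (.lt (nat_lit 3)) (.mul (.lt (nat_lit 3)) (.mul (.lt (nat_lit 3)) (.mul (.lt (nat_lit 3)) (.mul (.lt (nat_lit 3)) (.mul (.lt (nat_lit 0)) (.mul (.lt (nat_lit 2)) (.mul (.lt (nat_lit 4)) (.mul (.lt (nat_lit 2)) (.mul (.lt (nat_lit 2)) (.mul (.lt (nat_lit 4)) (.mul (.lt (nat_lit 2)) (.mul (.lt (nat_lit 0)) (.mul (.lt (nat_lit 2)) (.mul (.lt (nat_lit 4)) (.mul (.lt (nat_lit 0)) (.mul (.lt (nat_lit 2)) (.mul (.lt (nat_lit 4)) (.mul (.lt (nat_lit 2)) (.mul (.lt (nat_lit 2)) (.mul (.lt (nat_lit 0)) (.mul (.lt (nat_lit 6)) (.mul (.lt (nat_lit 4)) (.mul (.lt (nat_lit 3)) (.mul (.lt (nat_lit 4)) (.mul (.lt (nat_lit 2)) (.mul (.lt (nat_lit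 5)) (.mul (.lt (nat_lit 1)) (.mul (.lt (nat_lit 1)) (.mul (.lt (nat_lit 6)) (.mul (.lt (nat_lit 3)) (.mul (.lt (nat_lit 4)) (.mul (.lt (nat_lit 2)) (.mul (.lt (nat_lit 4)) (.mul (.lt (nat_lit 5)) (.mul (.lt (nat_lit 4)) (.mul (.lt (nat_lit 3)) (.mul (.lt (nat_lit 3)) (.mul (.lt (nat_lit 4)) (.mul (.lt (nat_lit 3)) (.mul (.lt (nat_lit 4)) (.mul (.lt (nat_lit 3)) (.mul (.lt (nat_lit 4)) (.mul (.lt (nat_lit 3)) (.mul (.lt (nat_lit 4)) (.mul (.lt (nat_lit 3)) (.mul (.lt (nat_lit 1)) (.mul (.lt (nat_lit 3)) (.mul (.lt (nat_lit 3)) (.mul (.lt (nat_lit 3)) (.mul (.lt (nat_lit 3)) (.mul (.lt (nat_lit 3)) (.mul (.lt (nat_lit 0)) (.mul (.lt (nat_lit 2)) (.mul (.lt (nat_lit 4)) (.mul (.lt (nat_lit 2)) (.mul (.lt (nat_lit 2)) (.mul (.lt (nat_lit 4)) (.mul (.lt (nat_lit 2)) (.mul (.lt (nat_lit 0)) (.mul (.lt (nat_lit 2))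 (.mul (.lt (nat_lit 4)) (.mul (.lt (nat_lit 0)) (.mul (.lt (nat_lit 2)) (.mul (.lt (nat_lit 4)) (.mul (.lt (nat_lit 2)) (.mul (.lt (nat_lit 2)) (.mul (.lt (nat_lit 0)) (.mul (.lt (nat_lit 6)) (.mul (.lt (nat_lit 4)) (.mul (.lt (nat_lit 3)) (.mul (.lt (nat_lit 4)) (.mul (.lt (nat_lit 2)) (.mul (.lt (nat_lit 5)) (.mul (.lt (nat_lit 1)) (.mul (.lt (nat_lit 1)) (.mul (.lt (nat_lit 6)) (.mul (.lt (nat_lit 3)) (.mul (.lt (nat_lit 4)) (.mul (.lt (nat_lit 2)) (.mul (.lt (nat_lit 4)) (.mul (.lt (nat_lit 5)) (.mul (.lt (nat_lit 0)) (.mul (.lt (nat_lit 2)) (.mul (.lt (nat_lit 0)) (.mul (.lt (nat_lit 2)) (.mul (.lt (nat_lit 2)) (.mul (.lt (nat_lit 2)) (.mul (.lt (nat_lit 0)) (.mul (.lt (nat_lit 2)) (.mul (.lt (nat_lit 0)) (.mul (.lt (nat_lit 3)) (.mul (.lt (nat_lit 3)) (.mul (.lt (nat_lit 1)) (.mul (.lt (nat_lit 3)) (.mul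 (.lt (nat_lit 1)) (.mul (.lt (nat_lit 3)) (.mul (.lt (nat_lit 3)) (.mul (.lt (nat_lit 3)) (.mul (.lt (nat_lit 1)) (.mul (.lt (nat_lit 3)) (.mul (.lt (nat_lit 1)) (.mul (.lt (nat_lit 6)) (.mul (.lt (nat_lit 4)) (.mul (.lt (nat_lit 3)) (.mul (.lt (nat_lit 4)) (.mul (.lt (nat_lit 2)) (.mul (.lt (nat_lit 5)) (.mul (.lt (nat_lit 0)) (.mul (.lt (nat_lit 0)) (.mul (.lt (nat_lit 6)) (.mul (.lt (nat_lit 3)) (.mul (.lt (nat_lit 4)) (.mul (.lt (nat_lit 2)) (.mul (.lt (nat_lit 4)) (.mul (.lt (nat_lit 5)) (.mul (.lt (nat_lit 1)) (.mul (.lt (nat_lit 3)) (.mul (.lt (nat_lit 3)) (.mul (.lt (nat_lit 4)) (.mul (.lt (nat_lit 3)) (.mul (.lt (nat_lit 1)) (.mul (.lt (nat_lit 4)) (.mul (.lt (nat_lit 3)) (.mul (.lt (nat_lit 1)) (.mul (.lt (nat_lit 3)) (.mul (.lt (nat_lit 4)) (.mul (.lt (nat_lit 3)) (.mul (.lt (nat_lit 3)) (.mul (.lt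 (nat_lit 4)) (.mul (.lt (nat_lit 3)) (.mul (.lt (nat_lit 1)) (.mul (.lt (nat_lit 2)) (.mul (.lt (nat_lit 2)) (.mul (.lt (nat_lit 2)) (.mul (.lt (nat_lit 2)) (.mul (.lt (nat_lit 2)) (.mul (.lt (nat_lit 0)) (.mul (.lt (nat_lit 2)) (.mul (.lt (nat_lit 4)) (.mul (.lt (nat_lit 2)) (.mul (.lt (nat_lit 4)) (.mul (.lt (nat_lit 2)) (.mul (.lt (nat_lit 4)) (.mul (.lt (nat_lit 2)) (.mul (.lt (nat_lit 4)) (.mul (.lt (nat_lit 2)) (.mul (.lt (nat_lit 2)) (.mul (.lt (nat_lit 4)) (.mul (.lt (nat_lit 6)) (.mul (.lt (nat_lit 4)) (.mul (.lt (nat_lit 3)) (.mul (.lt (nat_lit 4)) (.mul (.lt (nat_lit 2)) (.mul (.lt (nat_lit 5)) (.mul (.lt (nat_lit 0)) (.mul (.lt (nat_lit 0)) (.mul (.lt (nat_lit 6)) (.mul (.lt (nat_lit 3)) (.mul (.lt (nat_lit 4)) (.mul (.lt (nat_lit 2)) (.mul (.lt (nat_lit 4)) (.mul (.lt (nat_lit 5)) (.mul (.lt (nat_lit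 1)) (.mul (.lt (nat_lit 3)) (.mul (.lt (nat_lit 3)) (.mul (.lt (nat_lit 4)) (.mul (.lt (nat_lit 3)) (.mul (.lt (nat_lit 1)) (.mul (.lt (nat_lit 4)) (.mul (.lt (nat_lit 3)) (.mul (.lt (nat_lit 1)) (.mul (.lt (nat_lit 3)) (.mul (.lt (nat_lit 4)) (.mul (.lt (nat_lit 3)) (.mul (.lt (nat_lit 3)) (.mul (.lt (nat_lit 4)) (.mul (.lt (nat_lit 3)) (.mul (.lt (nat_lit 1)) (.mul (.lt (nat_lit 2)) (.mul (.lt (nat_lit 2)) (.mul (.lt (nat_lit 2)) (.mul (.lt (nat_lit 2)) (.mul (.lt (nat_lit 2)) (.mul (.lt (nat_lit 0)) (.mul (.lt (nat_lit 2)) (.mul (.lt (nat_lit 4)) (.mul (.lt (nat_lit 2)) (.mul (.lt (nat_lit 4)) (.mul (.lt (nat_lit 2)) (.mul (.lt (nat_lit 4)) (.mul (.lt (nat_lit 2)) (.mul (.lt (nat_lit 4)) (.mul (.lt (nat_lit 2)) (.mul (.lt (nat_lit 2)) (.mul (.lt (nat_lit 4)) (.mul (.lt (nat_lit 0)) (.mul (.lt (nat_lit 0))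 (.mul (.lt (nat_lit 6)) (.mul (.lt (nat_lit 4)) (.mul (.lt (nat_lit 3)) (.mul (.lt (nat_lit 4)) (.mul (.lt (nat_lit 2)) (.mul (.lt (nat_lit 5)) (.mul (.lt (nat_lit 0)) (.mul (.lt (nat_lit 0)) (.mul (.lt (nat_lit 6)) (.mul (.lt (nat_lit 3)) (.mul (.lt (nat_lit 4)) (.mul (.lt (nat_lit 2)) (.mul (.lt (nat_lit 4)) (.mul (.lt (nat_lit 5)) (.mul (.lt (nat_lit 2)) (.mul (.lt (nat_lit 2)) (.mul (.lt (nat_lit 4)) (.mul (.lt (nat_lit 2)) (.mul (.lt (nat_lit 4)) (.mul (.lt (nat_lit 2)) (.mul (.lt (nat_lit 4)) (.mul (.lt (nat_lit 2)) (.mul (.lt (nat_lit 0)) (.mul (.lt (nat_lit 2)) (.mul (.lt (nat_lit 0)) (.mul (.lt (nat_lit 2)) (.mul (.lt (nat_lit 2)) (.mul (.lt (nat_lit 2)) (.mul (.lt (nat_lit 2)) (.mul (.lt (nat_lit 2)) (.mul (.lt (nat_lit 4)) (.mul (.lt (nat_lit 3)) (.mul (.lt (nat_lit 1)) (.mul (.lt (nat_lit 3)) (.mul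 (.lt (nat_lit 1)) (.mul (.lt (nat_lit 3)) (.mul (.lt (nat_lit 3)) (.mul (.lt (nat_lit 1)) (.mul (.lt (nat_lit 3)) (.mul (.lt (nat_lit 4)) (.mul (.lt (nat_lit 3)) (.mul (.lt (nat_lit 4)) (.mul (.lt (nat_lit 3)) (.mul (.lt (nat_lit 4)) (.mul (.lt (nat_lit 3)) (.mul (.lt (nat_lit 4)) (.mul (.lt (nat_lit 2)) (.mul (.lt (nat_lit 0)) (.mul (.lt (nat_lit 2)) (.mul (.lt (nat_lit 2)) (.mul (.lt (nat_lit 2)) (.mul (.lt (nat_lit 4)) (.mul (.lt (nat_lit 2)) (.mul (.lt (nat_lit 2)) (.mul (.lt (nat_lit 4)) (.mul (.lt (nat_lit 2)) (.mul (.lt (nat_lit 4)) (.mul (.lt (nat_lit 0)) (.mul (.lt (nat_lit 2)) (.lt (nat_lit 0))))))))))))))))))))))))))))))))))))))))))))))))))))))))))))))))))))))))))))))))))))))))))))))))))))))))))))))))))))))))))))))))))))))))))))))))))))))))))))))))))))))))))))))))))))))))))))))))))))))))))))))))))))))))))))))))))))))))))))))))))))))))))))))))))))))))))))))))))))))))))))))))))))))))))))))))))))))))))))))))))))))))))))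

/-- an element of order three -/
def e8 : PE := .mul (.lt (nat_lit 1)) (.mul (.lt (nat_lit 3)) (.mul (.lt (nat_lit 1)) (.mul (.lt (nat_lit 4)) (.mul (.lt (nat_lit 3)) (.mul (.lt (nat_lit 4)) (.mul (.lt (nat_lit 3)) (.mul (.lt (nat_lit 3)) (.mul (.lt (nat_lit 4)) (.mul (.lt (nat_lit 3)) (.mul (.lt (nat_lit 3)) (.mul (.lt (nat_lit 3)) (.mul (.lt (nat_lit 1)) (.mul (.lt (nat_lit 3)) (.mul (.lt (nat_lit 4)) (.mul (.lt (nat_lit 2)) (.mul (.lt (nat_lit 4)) (.mul (.lt (nat_lit 2)) (.mul (.lt (nat_lit 4)) (.mul (.lt (nat_lit 2)) (.mul (.lt (nat_lit 4)) (.mul (.lt (nat_lit 2)) (.mul (.lt (nat_lit 0)) (.mul (.lt (nat_lit 2)) (.mul (.lt (nat_lit 2)) (.mul (.lt (nat_lit 0)) (.mul (.lt (nat_lit 2)) (.mul (.lt (nat_lit 0)) (.mul (.lt (nat_lit 2)) (.mul (.lt (nat_lit 4)) (.mul (.lt (nat_lit 3)) (.mul (.lt (nat_lit 1)) (.mul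 (.lt (nat_lit 4)) (.mul (.lt (nat_lit 3)) (.mul (.lt (nat_lit 3)) (.mul (.lt (nat_lit 3)) (.mul (.lt (nat_lit 3)) (.mul (.lt (nat_lit 4)) (.mul (.lt (nat_lit 3)) (.mul (.lt (nat_lit 3)) (.mul (.lt (nat_lit 1)) (.mul (.lt (nat_lit 4)) (.mul (.lt (nat_lit 3)) (.mul (.lt (nat_lit 3)) (.mul (.lt (nat_lit 3)) (.mul (.lt (nat_lit 1)) (.mul (.lt (nat_lit 4)) (.mul (.lt (nat_lit 2)) (.mul (.lt (nat_lit 4)) (.mul (.lt (nat_lit 2)) (.mul (.lt (nat_lit 4)) (.mul (.lt (nat_lit 2)) (.mul (.lt (nat_lit 4)) (.mul (.lt (nat_lit 2)) (.mul (.lt (nat_lit 0)) (.mul (.lt (nat_lit 2)) (.mul (.lt (nat_lit 2)) (.mul (.lt (nat_lit 4)) (.mul (.lt (nat_lit 0)) (.mul (.lt (nat_lit 2)) (.mul (.lt (nat_lit 2)) (.mul (.lt (nat_lit 2)) (.mul (.lt (nat_lit 2)) (.mul (.lt (nat_lit 0)) (.mul (.lt (nat_lit 0)) (.mul (.lt (nat_lit 2)) (.mul (.lt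 (nat_lit 0)) (.mul (.lt (nat_lit 2)) (.mul (.lt (nat_lit 2)) (.mul (.lt (nat_lit 2)) (.mul (.lt (nat_lit 0)) (.mul (.lt (nat_lit 2)) (.mul (.lt (nat_lit 0)) (.mul (.lt (nat_lit 3)) (.mul (.lt (nat_lit 3)) (.mul (.lt (nat_lit 1)) (.mul (.lt (nat_lit 3)) (.mul (.lt (nat_lit 1)) (.mul (.lt (nat_lit 3)) (.mul (.lt (nat_lit 3)) (.mul (.lt (nat_lit 3)) (.mul (.lt (nat_lit 1)) (.mul (.lt (nat_lit 3)) (.mul (.lt (nat_lit 1)) (.mul (.lt (nat_lit 1)) (.mul (.lt (nat_lit 3)) (.mul (.lt (nat_lit 3)) (.mul (.lt (nat_lit 3)) (.mul (.lt (nat_lit 3)) (.mul (.lt (nat_lit 1)) (.mul (.lt (nat_lit 4)) (.mul (.lt (nat_lit 3)) (.mul (.lt (nat_lit 3)) (.mul (.lt (nat_lit 1)) (.mul (.lt (nat_lit 3)) (.mul (.lt (nat_lit 4)) (.mul (.lt (nat_lit 3)) (.mul (.lt (nat_lit 4)) (.mul (.lt (nat_lit 3)) (.mul (.lt (nat_lit 4)) (.mul (.lt (nat_lit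 3)) (.mul (.lt (nat_lit 4)) (.mul (.lt (nat_lit 0)) (.mul (.lt (nat_lit 2)) (.mul (.lt (nat_lit 2)) (.mul (.lt (nat_lit 2)) (.mul (.lt (nat_lit 4)) (.mul (.lt (nat_lit 0)) (.mul (.lt (nat_lit 2)) (.mul (.lt (nat_lit 2)) (.mul (.lt (nat_lit 4)) (.mul (.lt (nat_lit 2)) (.mul (.lt (nat_lit 2)) (.mul (.lt (nat_lit 2)) (.mul (.lt (nat_lit 2)) (.mul (.lt (nat_lit 4)) (.mul (.lt (nat_lit 0)) (.mul (.lt (nat_lit 2)) (.mul (.lt (nat_lit 4)) (.mul (.lt (nat_lit 3)) (.mul (.lt (nat_lit 1)) (.mul (.lt (nat_lit 3)) (.mul (.lt (nat_lit 1)) (.mul (.lt (nat_lit 3)) (.mul (.lt (nat_lit 3)) (.mul (.lt (nat_lit 1)) (.mul (.lt (nat_lit 3)) (.mul (.lt (nat_lit 4)) (.mul (.lt (nat_lit 3)) (.mul (.lt (nat_lit 4)) (.mul (.lt (nat_lit 3)) (.mul (.lt (nat_lit 4)) (.mul (.lt (nat_lit 3)) (.mul (.lt (nat_lit 4)) (.mul (.lt (nat_lit 2))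 (.mul (.lt (nat_lit 0)) (.mul (.lt (nat_lit 2)) (.mul (.lt (nat_lit 2)) (.mul (.lt (nat_lit 2)) (.mul (.lt (nat_lit 4)) (.mul (.lt (nat_lit 2)) (.mul (.lt (nat_lit 2)) (.mul (.lt (nat_lit 4)) (.mul (.lt (nat_lit 2)) (.mul (.lt (nat_lit 4)) (.mul (.lt (nat_lit 0)) (.mul (.lt (nat_lit 2)) (.lt (nat_lit 0))))))))))))))))))))))))))))))))))))))))))))))))))))))))))))))))))))))))))))))))))))))))))))))))))))))))))))))))))))))))))))))))))))))))))))))))))))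

/-- an element of order three -/
def e9 : PE := .mul (.lt (nat_lit 6)) (.mul (.lt (nat_lit 4)) (.mul (.lt (nat_lit 3)) (.mul (.lt (nat_lit 4)) (.mul (.lt (nat_lit 2)) (.mul (.lt (nat_lit 5)) (.mul (.lt (nat_lit 0)) (.mul (.lt (nat_lit 0)) (.mul (.lt (nat_lit 6)) (.mul (.lt (nat_lit 3)) (.mul (.lt (nat_lit 4)) (.mul (.lt (nat_lit 2)) (.mul (.lt (nat_lit 4)) (.mul (.lt (nat_lit 5)) (.mul (.lt (nat_lit 1)) (.mul (.lt (nat_lit 3)) (.mul (.lt (nat_lit 3)) (.mul (.lt (nat_lit 4)) (.mul (.lt (nat_lit 3)) (.mul (.lt (nat_lit 1)) (.mul (.lt (nat_lit 4)) (.mul (.lt (nat_lit 3)) (.mul (.lt (nat_lit 1)) (.mul (.lt (nat_lit 3)) (.mul (.lt (nat_lit 4)) (.mul (.lt (nat_lit 3)) (.mul (.lt (nat_lit 3)) (.mul (.lt (nat_lit 4)) (.mul (.lt (nat_lit 3)) (.mul (.lt (nat_lit 1)) (.mul (.lt (nat_lit 2)) (.mul (.lt (nat_lit 2)) (.mul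 (.lt (nat_lit 2)) (.mul (.lt (nat_lit 2)) (.mul (.lt (nat_lit 2)) (.mul (.lt (nat_lit 0)) (.mul (.lt (nat_lit 2)) (.mul (.lt (nat_lit 4)) (.mul (.lt (nat_lit 2)) (.mul (.lt (nat_lit 4)) (.mul (.lt (nat_lit 2)) (.mul (.lt (nat_lit 4)) (.mul (.lt (nat_lit 2)) (.mul (.lt (nat_lit 4)) (.mul (.lt (nat_lit 2)) (.mul (.lt (nat_lit 2)) (.mul (.lt (nat_lit 4)) (.mul (.lt (nat_lit 6)) (.mul (.lt (nat_lit 4)) (.mul (.lt (nat_lit 3)) (.mul (.lt (nat_lit 4)) (.mul (.lt (nat_lit 2)) (.mul (.lt (nat_lit 5)) (.mul (.lt (nat_lit 0)) (.mul (.lt (nat_lit 0)) (.mul (.lt (nat_lit 6)) (.mul (.lt (nat_lit 3)) (.mul (.lt (nat_lit 4)) (.mul (.lt (nat_lit 2)) (.mul (.lt (nat_lit 4)) (.mul (.lt (nat_lit 5)) (.mul (.lt (nat_lit 1)) (.mul (.lt (nat_lit 3)) (.mul (.lt (nat_lit 3)) (.mul (.lt (nat_lit 4)) (.mul (.lt (nat_lit 3)) (.mul (.lt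 (nat_lit 1)) (.mul (.lt (nat_lit 4)) (.mul (.lt (nat_lit 3)) (.mul (.lt (nat_lit 1)) (.mul (.lt (nat_lit 3)) (.mul (.lt (nat_lit 4)) (.mul (.lt (nat_lit 3)) (.mul (.lt (nat_lit 3)) (.mul (.lt (nat_lit 4)) (.mul (.lt (nat_lit 3)) (.mul (.lt (nat_lit 1)) (.mul (.lt (nat_lit 2)) (.mul (.lt (nat_lit 2)) (.mul (.lt (nat_lit 2)) (.mul (.lt (nat_lit 2)) (.mul (.lt (nat_lit 2)) (.mul (.lt (nat_lit 0)) (.mul (.lt (nat_lit 2)) (.mul (.lt (nat_lit 4)) (.mul (.lt (nat_lit 2)) (.mul (.lt (nat_lit 4)) (.mul (.lt (nat_lit 2)) (.mul (.lt (nat_lit 4)) (.mul (.lt (nat_lit 2)) (.mul (.lt (nat_lit 4)) (.mul (.lt (nat_lit 2)) (.mul (.lt (nat_lit 2)) (.mul (.lt (nat_lit 4)) (.mul (.lt (nat_lit 0)) (.mul (.lt (nat_lit 0)) (.mul (.lt (nat_lit 6)) (.mul (.lt (nat_lit 4)) (.mul (.lt (nat_lit 3)) (.mul (.lt (nat_lit 4)) (.mul (.lt (nat_lit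 2)) (.mul (.lt (nat_lit 5)) (.mul (.lt (nat_lit 0)) (.mul (.lt (nat_lit 0)) (.mul (.lt (nat_lit 6)) (.mul (.lt (nat_lit 3)) (.mul (.lt (nat_lit 4)) (.mul (.lt (nat_lit 2)) (.mul (.lt (nat_lit 4)) (.mul (.lt (nat_lit 5)) (.mul (.lt (nat_lit 2)) (.mul (.lt (nat_lit 2)) (.mul (.lt (nat_lit 4)) (.mul (.lt (nat_lit 2)) (.mul (.lt (nat_lit 4)) (.mul (.lt (nat_lit 2)) (.mul (.lt (nat_lit 4)) (.mul (.lt (nat_lit 2)) (.mul (.lt (nat_lit 0)) (.mul (.lt (nat_lit 2)) (.mul (.lt (nat_lit 0)) (.mul (.lt (nat_lit 2)) (.mul (.lt (nat_lit 2)) (.mul (.lt (nat_lit 2)) (.mul (.lt (nat_lit 2)) (.mul (.lt (nat_lit 2)) (.mul (.lt (nat_lit 4)) (.mul (.lt (nat_lit 3)) (.mul (.lt (nat_lit 1)) (.mul (.lt (nat_lit 3)) (.mul (.lt (nat_lit 1)) (.mul (.lt (nat_lit 3)) (.mul (.lt (nat_lit 3)) (.mul (.lt (nat_lit 1)) (.mul (.lt (nat_lit 3))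 (.mul (.lt (nat_lit 4)) (.mul (.lt (nat_lit 3)) (.mul (.lt (nat_lit 4)) (.mul (.lt (nat_lit 3)) (.mul (.lt (nat_lit 4)) (.mul (.lt (nat_lit 3)) (.mul (.lt (nat_lit 4)) (.mul (.lt (nat_lit 2)) (.mul (.lt (nat_lit 0)) (.mul (.lt (nat_lit 2)) (.mul (.lt (nat_lit 2)) (.mul (.lt (nat_lit 2)) (.mul (.lt (nat_lit 4)) (.mul (.lt (nat_lit 2)) (.mul (.lt (nat_lit 2)) (.mul (.lt (nat_lit 4)) (.mul (.lt (nat_lit 2)) (.mul (.lt (nat_lit 4)) (.mul (.lt (nat_lit 0)) (.mul (.lt (nat_lit 2)) (.mul (.lt (nat_lit 0)) (.mul (.lt (nat_lit 0)) (.mul (.lt (nat_lit 2)) (.mul (.lt (nat_lit 0)) (.mul (.lt (nat_lit 2)) (.mul (.lt (nat_lit 2)) (.mul (.lt (nat_lit 2)) (.mul (.lt (nat_lit 0)) (.mul (.lt (nat_lit 2)) (.mul (.lt (nat_lit 0)) (.mul (.lt (nat_lit 3)) (.mul (.lt (nat_lit 3)) (.mul (.lt (nat_lit 1)) (.mul (.lt (nat_lit 3)) (.mul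 (.lt (nat_lit 1)) (.mul (.lt (nat_lit 3)) (.mul (.lt (nat_lit 3)) (.mul (.lt (nat_lit 3)) (.mul (.lt (nat_lit 1)) (.mul (.lt (nat_lit 3)) (.mul (.lt (nat_lit 1)) (.mul (.lt (nat_lit 1)) (.mul (.lt (nat_lit 3)) (.mul (.lt (nat_lit 1)) (.mul (.lt (nat_lit 4)) (.mul (.lt (nat_lit 3)) (.mul (.lt (nat_lit 4)) (.mul (.lt (nat_lit 3)) (.mul (.lt (nat_lit 3)) (.mul (.lt (nat_lit 4)) (.mul (.lt (nat_lit 3)) (.mul (.lt (nat_lit 3)) (.mul (.lt (nat_lit 3)) (.mul (.lt (nat_lit 1)) (.mul (.lt (nat_lit 3)) (.mul (.lt (nat_lit 4)) (.mul (.lt (nat_lit 2)) (.mul (.lt (nat_lit 4)) (.mul (.lt (nat_lit 2)) (.mul (.lt (nat_lit 4)) (.mul (.lt (nat_lit 2)) (.mul (.lt (nat_lit 4)) (.mul (.lt (nat_lit 2)) (.mul (.lt (nat_lit 0)) (.mul (.lt (nat_lit 2)) (.mul (.lt (nat_lit 2)) (.mul (.lt (nat_lit 0)) (.mul (.lt (nat_lit 2)) (.mul (.lt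 (nat_lit 0)) (.mul (.lt (nat_lit 2)) (.mul (.lt (nat_lit 4)) (.mul (.lt (nat_lit 3)) (.mul (.lt (nat_lit 3)) (.mul (.lt (nat_lit 3)) (.mul (.lt (nat_lit 3)) (.mul (.lt (nat_lit 3)) (.mul (.lt (nat_lit 1)) (.mul (.lt (nat_lit 3)) (.mul (.lt (nat_lit 1)) (.mul (.lt (nat_lit 3)) (.mul (.lt (nat_lit 4)) (.mul (.lt (nat_lit 3)) (.mul (.lt (nat_lit 4)) (.mul (.lt (nat_lit 3)) (.mul (.lt (nat_lit 4)) (.mul (.lt (nat_lit 3)) (.mul (.lt (nat_lit 3)) (.mul (.lt (nat_lit 6)) (.mul (.lt (nat_lit 4)) (.mul (.lt (nat_lit 3)) (.mul (.lt (nat_lit 4)) (.mul (.lt (nat_lit 2)) (.mul (.lt (nat_lit 5)) (.mul (.lt (nat_lit 1)) (.mul (.lt (nat_lit 1)) (.mul (.lt (nat_lit 6)) (.mul (.lt (nat_lit 3)) (.mul (.lt (nat_lit 4)) (.mul (.lt (nat_lit 2)) (.mul (.lt (nat_lit 4)) (.mul (.lt (nat_lit 5)) (.mul (.lt (nat_lit 1)) (.mul (.lt (nat_lit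 1)) (.mul (.lt (nat_lit 4)) (.mul (.lt (nat_lit 3)) (.mul (.lt (nat_lit 3)) (.mul (.lt (nat_lit 4)) (.mul (.lt (nat_lit 3)) (.mul (.lt (nat_lit 4)) (.mul (.lt (nat_lit 3)) (.mul (.lt (nat_lit 4)) (.mul (.lt (nat_lit 3)) (.mul (.lt (nat_lit 4)) (.mul (.lt (nat_lit 3)) (.mul (.lt (nat_lit 1)) (.mul (.lt (nat_lit 3)) (.mul (.lt (nat_lit 3)) (.mul (.lt (nat_lit 3)) (.mul (.lt (nat_lit 3)) (.mul (.lt (nat_lit 3)) (.mul (.lt (nat_lit 0)) (.mul (.lt (nat_lit 2)) (.mul (.lt (nat_lit 4)) (.mul (.lt (nat_lit 2)) (.mul (.lt (nat_lit 2)) (.mul (.lt (nat_lit 4)) (.mul (.lt (nat_lit 2)) (.mul (.lt (nat_lit 0)) (.mul (.lt (nat_lit 2)) (.mul (.lt (nat_lit 4)) (.mul (.lt (nat_lit 0)) (.mul (.lt (nat_lit 2)) (.mul (.lt (nat_lit 4)) (.mul (.lt (nat_lit 2)) (.mul (.lt (nat_lit 2)) (.mul (.lt (nat_lit 0)) (.mul (.lt (nat_lit 6))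 (.mul (.lt (nat_lit 4)) (.mul (.lt (nat_lit 3)) (.mul (.lt (nat_lit 4)) (.mul (.lt (nat_lit 2)) (.mul (.lt (nat_lit 5)) (.mul (.lt (nat_lit 1)) (.mul (.lt (nat_lit 1)) (.mul (.lt (nat_lit 6)) (.mul (.lt (nat_lit 3)) (.mul (.lt (nat_lit 4)) (.mul (.lt (nat_lit 2)) (.mul (.lt (nat_lit 4)) (.mul (.lt (nat_lit 5)) (.mul (.lt (nat_lit 4)) (.mul (.lt (nat_lit 3)) (.mul (.lt (nat_lit 3)) (.mul (.lt (nat_lit 4)) (.mul (.lt (nat_lit 3)) (.mul (.lt (nat_lit 4)) (.mul (.lt (nat_lit 3)) (.mul (.lt (nat_lit 4)) (.mul (.lt (nat_lit 3)) (.mul (.lt (nat_lit 4)) (.mul (.lt (nat_lit 3)) (.mul (.lt (nat_lit 1)) (.mul (.lt (nat_lit 3)) (.mul (.lt (nat_lit 3)) (.mul (.lt (nat_lit 3)) (.mul (.lt (nat_lit 3)) (.mul (.lt (nat_lit 3)) (.mul (.lt (nat_lit 0)) (.mul (.lt (nat_lit 2)) (.mul (.lt (nat_lit 4)) (.mul (.lt (nat_lit 2)) (.mul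 (.lt (nat_lit 2)) (.mul (.lt (nat_lit 4)) (.mul (.lt (nat_lit 2)) (.mul (.lt (nat_lit 0)) (.mul (.lt (nat_lit 2)) (.mul (.lt (nat_lit 4)) (.mul (.lt (nat_lit 0)) (.mul (.lt (nat_lit 2)) (.mul (.lt (nat_lit 4)) (.mul (.lt (nat_lit 2)) (.mul (.lt (nat_lit 2)) (.mul (.lt (nat_lit 0)) (.mul (.lt (nat_lit 6)) (.mul (.lt (nat_lit 4)) (.mul (.lt (nat_lit 3)) (.mul (.lt (nat_lit 4)) (.mul (.lt (nat_lit 2)) (.mul (.lt (nat_lit 5)) (.mul (.lt (nat_lit 1)) (.mul (.lt (nat_lit 1)) (.mul (.lt (nat_lit 6)) (.mul (.lt (nat_lit 3)) (.mul (.lt (nat_lit 4)) (.mul (.lt (nat_lit 2)) (.mul (.lt (nat_lit 4)) (.lt (nat_lit 5))))))))))))))))))))))))))))))))))))))))))))))))))))))))))))))))))))))))))))))))))))))))))))))))))))))))))))))))))))))))))))))))))))))))))))))))))))))))))))))))))))))))))))))))))))))))))))))))))))))))))))))))))))))))))))))))))))))))))))))))))))))))))))))))))))))))))))))))))))))))))))))))))))))))))))))))))))))))))))))))))))))))))))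

/-- the elements -/
def es : List PE := [e0, e1, e2, e3, e4, e5, e6, e7, e8, e9]

/-- a moved point -/
def x0 : ℕ := nat_lit 8389

theorem mv : PE.ev (ev0 HNTT.cfg) (es.getD 0 .one) true x0 ≠ x0 := by decide +kernel

end Cfsg.Agent.Lib.Compute.TC.HNA
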